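import Groth.Agent.H17.Seshadri.Degree
import Groth.Agent.H26Blow.Proper
import Groth.Agent.H8Props.ProjOpenAmple
import Groth.Agent.H10Coh.Pn.Results
import Groth.Agent.H11Ample.RelComp
import Groth.Agent.H11Ample.RelAmple
import Groth.Agent.H11Strict.BlowProj
import Groth.Prelude.Def_W4c2seshadriposJets
import Mathlib

/-!
# Separation of jets bounds the Seshadri constant from below
-/

set_option autoImplicit false
set_option linter.style.haveILetI false
set_option linter.unusedSectionVars false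

universe u

open CategoryTheory CategoryTheory.Limits AlgebraicGeometry Opposite TopologicalSpace
open Groth.Agent.H11Tilde

noncomputable section

namespace Groth.Agent.H17.Seshadri

theorem exists_pow_notMem {A : Type u} [CommRing A] [IsNoetherianRing A] (p q : Ideal A) [p.IsMaximal]
    [q.IsPrime] (hle : q ≤ p) (hne : q ≠ p) (s : ℕ) :
    ∃ b ∈ p ^ s, ∀ c, c - b ∈ p ^ (s + 1) → c ∉ q := by
  by_contra h
  push Not at h
  let π : A →+* A ⧸ q := Ideal.Quotient.mk q
  have hle' : (p ^ s).map π ≤ p.map π • (p ^ s).map π := by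
    rw [smul_eq_mul, ← Ideal.map_mul, ← pow_succ', Ideal.map_le_iff_le_comap]
    intro b hb
    obtain ⟨c, hc, hcq⟩ := h b hb
    show π b ∈ (p ^ (s + 1)).map π
    have h0 : π b = π (b - c) := by
      rw [map_sub, show π c = 0 from Ideal.Quotient.eq_zero_iff_mem.2 hcq, sub_zero]
    rw [h0]
    exact Ideal.mem_map_of_mem _ (by rw [← neg_sub]; exact neg_mem hc)
  obtain ⟨r, hr, hr0⟩ := Submodule.exists_sub_one_mem_and_smul_eq_zero_of_fg_of_le_smul (p.map π) ((p ^ s).map π)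
    (IsNoetherian.noetherian _) hle'
  obtain ⟨a, ha, haq⟩ := Set.not_subset.1 (fun hsub => hne (le_antisymm hle hsub))
  have hr1 : r ≠ 0 := by
    rintro rfl
    have h1 : (1 : A ⧸ q) ∈ p.map π := by
      have := neg_mem hr
      simpa using this
    have h2 : (p.map π).comap π = p := by
      rw [Ideal.comap_map_of_surjective π Ideal.Quotient.mk_surjective, ← RingHom.ker_eq_comap_bot, Ideal.mk_ker,
        sup_eq_left]
      exact hle
    have h3 : (1 : A) ∈ (p.map π).comap π := by rw [Ideal.mem_comap, map_one]; exact h1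
    rw [h2] at h3
    exact (Ideal.IsMaximal.ne_top ‹_›) ((Ideal.eq_top_iff_one _).2 h3)
  have ha0 := hr0 (π (a ^ s)) (Ideal.mem_map_of_mem _ (Ideal.pow_mem_pow ha s))
  rw [smul_eq_mul, mul_eq_zero] at ha0
  rcases ha0 with h0 | h0
  · exact hr1 h0
  · exact haq (Ideal.IsPrime.mem_of_pow_mem inferInstance s (Ideal.Quotient.eq_zero_iff_mem.1 h0))

variable {X : Scheme.{u}}

theorem mem_support_pointIdeal (x : X) (hx : IsClosed ({x} : Set X)) (y : X) :
    y ∈ (W4c2seshadripos.pointIdeal x hx).support ↔ y = x := by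
  show y ∈ ((W4c2seshadripos.pointIdeal x hx).support : Set X) ↔ _
  simp [W4c2seshadripos.pointIdeal]

theorem pointIdeal_ideal (x : X) (hx : IsClosed ({x} : Set X)) (U : X.affineOpens) (hxU : x ∈ U.1) :
    (W4c2seshadripos.pointIdeal x hx).ideal U = (U.2.primeIdealOf ⟨x, hxU⟩).asIdeal := by
  have hset : U.2.fromSpec ⁻¹' ({x} : Set X) = {U.2.primeIdealOf ⟨x, hxU⟩} := by
    ext z
    constructor
    · intro hz
      exact U.2.fromSpec.isOpenEmbedding.injective
        ((Set.mem_singleton_iff.1 hz).trans (U.2.fromSpec_primeIdealOf ⟨x, hxU⟩).symm)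
    · rintro rfl
      exact U.2.fromSpec_primeIdealOf ⟨x, hxU⟩
  rw [W4c2seshadripos.pointIdeal, Scheme.IdealSheafData.vanishingIdeal_ideal]
  show PrimeSpectrum.vanishingIdeal (U.2.fromSpec ⁻¹' ({x} : Set X)) = _
  erw [hset]
  exact PrimeSpectrum.vanishingIdeal_singleton _

theorem ideal_eq_top (I : X.IdealSheafData) (U : X.affineOpens) (h : ∀ y ∈ U.1, y ∉ I.support) :
    I.ideal U = ⊤ := by
  by_contra hne
  obtain ⟨p, hp, hIp⟩ := Ideal.exists_le_maximal _ hne
  let P : PrimeSpectrum Γ(X, U.1) := ⟨p, hp.isPrime⟩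
  have hyU : U.2.fromSpec P ∈ U.1 := U.2.range_fromSpec.le ⟨P, rfl⟩
  refine h _ hyU ((I.mem_support_iff_of_mem hyU).2 ?_)
  rw [Scheme.mem_zeroLocus_iff]
  intro a ha hb
  have h' : P ∈ U.2.fromSpec ⁻¹ᵁ X.basicOpen a := hb
  rw [U.2.fromSpec_preimage_basicOpen] at h'
  exact h' (hIp ha)

theorem HH0Equiv_natural {M N : X.Modules} (φ : M ⟶ N) (t : Coh.HH X M 0) :
    H10Coh.HH0Equiv N (Sheaf.H.map ((SheafOfModules.toSheaf X.ringCatSheaf).map φ) 0 t) =
      φ.app ⊤ (H10Coh.HH0Equiv M t) := by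
  change H10Coh.H0Equiv (H10Coh.sh N) ⊤ (H10Coh.topEquiv (H10Coh.sh N) 0
    (Sheaf.H.map ((SheafOfModules.toSheaf X.ringCatSheaf).map φ) 0 t)) = _
  rw [H10Coh.topEquiv_map]
  exact H10Coh.H0Equiv_map (F := H10Coh.sh M) (G := H10Coh.sh N) ((SheafOfModules.toSheaf X.ringCatSheaf).map φ) _

/-- A prescribed jet is attained by a global section. -/
theorem exists_section_jet {M : X.Modules} (x : X) (hx : IsClosed ({x} : Set X)) {l : ℕ}
    (h : W4c2seshadripos.SeparatesJets M x hx l) (U : X.affineOpens) (hxU : x ∈ U.1) {e : Γ(M, U.1)}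
    (he : IsGen M e) (b : Γ(X, U.1)) :
    ∃ (g : Γ(M, ⊤)) (c : Γ(X, U.1)), M.presheaf.map (homOfLE (le_top : U.1 ≤ ⊤)).op g = c • e ∧
      c - b ∈ ((W4c2seshadripos.pointIdeal x hx).ideal U) ^ (l + 1) := by
  let I := W4c2seshadripos.pointIdeal x hx ^ (l + 1)
  let ι := I.subschemeι
  have hpre : ι ⁻¹ᵁ (⊤ : X.Opens) ≤ ι ⁻¹ᵁ U.1 := fun z _ => by
    have hz : ι z ∈ (I.support : Set X) := I.range_subschemeι.le ⟨z, rfl⟩
    simp only [I, Scheme.IdealSheafData.support_pow_succ] at hz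
    show ι z ∈ U.1
    rw [(mem_support_pointIdeal x hx _).1 hz]
    exact hxU
  let P := (Scheme.Modules.pullback ι).obj M
  let z : Γ(P, ι ⁻¹ᵁ ⊤) := P.presheaf.map (homOfLE hpre).op (OmegaSh.pullSect ι M U.1 (b • e))
  obtain ⟨t, ht⟩ := h ((H10Coh.HH0Equiv ((Scheme.Modules.pushforward ι).obj P)).symm (show Γ((Scheme.Modules.pushforward ι).obj P, ⊤) from z))
  have hg : OmegaSh.pullSect ι M ⊤ (H10Coh.HH0Equiv M t) = z := by
    have h1 := HH0Equiv_natural ((Scheme.Modules.pullbackPushforwardAdjunction ι).unit.app M) t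
    rw [show Sheaf.H.map ((SheafOfModules.toSheaf X.ringCatSheaf).map
      ((Scheme.Modules.pullbackPushforwardAdjunction ι).unit.app M)) 0 t = _ from ht] at h1
    exact h1.symm.trans (AddEquiv.apply_symm_apply (H10Coh.HH0Equiv ((Scheme.Modules.pushforward ι).obj P)) _)
  obtain ⟨c, hc⟩ := H11Ample.exists_coeff he
    (M.presheaf.map (homOfLE (le_top : U.1 ≤ ⊤)).op (H10Coh.HH0Equiv M t))
  refine ⟨H10Coh.HH0Equiv M t, c, hc, ?_⟩
  have h2 : OmegaSh.pullSect ι M U.1 (c • e) = OmegaSh.pullSect ι M U.1 (b • e) := by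
    rw [← hc, pullSect_res ι M (le_top : U.1 ≤ ⊤), hg]
    show P.presheaf.map _ (P.presheaf.map _ _) = _
    rw [H10Coh.mres_mres]
    exact H10Coh.mres_self P _ _
  rw [OmegaSh.pullSect_smul, OmegaSh.pullSect_smul] at h2
  have hinj := ((IsGen.pullSect ι he).bijective (le_refl (ι ⁻¹ᵁ U.1))).1
  have h3 : ι.app U.1 c = ι.app U.1 b := hinj (by simpa only [H10Coh.mres_self] using h2)
  have h4 : c - b ∈ RingHom.ker (ι.app U.1).hom := by
    rw [RingHom.mem_ker, map_sub]
    exact sub_eq_zero.2 h3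
  rw [I.ker_subschemeι_app U] at h4
  exact h4

/-- The ideal of the exceptional divisor is generated by sections coming from the centre. -/
theorem exists_gen_sect {Y : Scheme.{u}} (f : Y ⟶ X) (I : X.IdealSheafData)
    (hE : BlowUp.IsEffCartierIdeal (I.comap f)) (U : X.affineOpens) (y : Y) (hy : f y ∈ U.1) :
    ∃ (s : Γ(ClSub.idealMod (I.comap f), f ⁻¹ᵁ U.1)) (V : Y.Opens) (hV : V ≤ f ⁻¹ᵁ U.1), y ∈ V ∧
      IsGen (ClSub.idealMod (I.comap f)) ((ClSub.idealMod (I.comap f)).presheaf.map (homOfLE hV).op s) := by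
  obtain ⟨V₀, hyV₀, a, ha, hV₀⟩ := hE y
  obtain ⟨t, hle, hyt⟩ := V₀.2.exists_basicOpen_le (V := f ⁻¹ᵁ U.1) ⟨y, hy⟩ hyV₀
  let W := Y.basicOpen t
  have hW : IsAffineOpen W := V₀.2.basicOpen t
  haveI := V₀.2.isLocalization_basicOpen t
  let a' : Γ(Y, W) := Y.presheaf.map (homOfLE (Y.basicOpen_le t)).op a
  have ha' : a' ∈ nonZeroDivisors Γ(Y, W) :=
    IsLocalization.map_nonZeroDivisors_le (Submonoid.powers t) _ (Submonoid.mem_map_of_mem _ ha)
  have hideal : (I.comap f).ideal ⟨W, hW⟩ = Ideal.span {a'} := by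
    rw [← (I.comap f).map_ideal (U := ⟨W, hW⟩) (V := V₀) (Y.basicOpen_le t), hV₀, Ideal.map_span,
      Set.image_singleton]
    rfl
  obtain ⟨q, hq⟩ := (H29Blow.mem_ideal_iff_exists_idealSect _ hW a').1 (hideal ▸ Ideal.mem_span_singleton_self a')
  have hqgen : IsGen (ClSub.idealMod (I.comap f)) q :=
    H11Strict.BlowProj.isGen_of_span hW q (hq.symm ▸ ha') (hq.symm ▸ hideal)
  let φ := (f.appLE U.1 W hle).hom
  let P := (hW.primeIdealOf ⟨y, hyt⟩).asIdeal
  obtain ⟨z, hz, c, hcP, hzc⟩ : ∃ z ∈ I.ideal U, ∃ c ∉ P, φ z = c * a' := by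
    by_contra hne
    push Not at hne
    have hmap : Ideal.map φ (I.ideal U) = Ideal.span {a'} :=
      (H29Blow.ideal_comap I f U ⟨W, hW⟩ hle).symm.trans hideal
    have hsub : Ideal.map φ (I.ideal U) ≤ P * Ideal.span {a'} := by
      rw [Ideal.map_le_iff_le_comap]
      intro z hz
      obtain ⟨c, hc⟩ := Ideal.mem_span_singleton'.1 (hmap.le (Ideal.mem_map_of_mem φ hz))
      have hcP : c ∈ P := by
        by_contra hcP
        exact hne z hz c hcP hc.symm
      rw [Ideal.mem_comap, ← hc]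
      exact Ideal.mul_mem_mul hcP (Ideal.mem_span_singleton_self _)
    obtain ⟨p, hp, hpa⟩ := Ideal.mem_mul_span_singleton.1 (hsub (hmap.ge (Ideal.mem_span_singleton_self a')))
    have : p = 1 := (mul_cancel_right_mem_nonZeroDivisors ha').1 (hpa.trans (one_mul a').symm)
    exact (hW.primeIdealOf ⟨y, hyt⟩).isPrime.ne_top ((Ideal.eq_top_iff_one _).2 (this ▸ hp))
  obtain ⟨s, hs⟩ := H11Strict.BlowProj.exists_sect f I U z hz
  have hyc : y ∈ Y.basicOpen c := by
    have h1 : hW.primeIdealOf ⟨y, hyt⟩ ∈ hW.fromSpec ⁻¹ᵁ Y.basicOpen c := by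
      rw [hW.fromSpec_preimage_basicOpen]; exact hcP
    have h2 : hW.fromSpec (hW.primeIdealOf ⟨y, hyt⟩) ∈ Y.basicOpen c := h1
    rwa [hW.fromSpec_primeIdealOf] at h2
  refine ⟨s, Y.basicOpen c, (Y.basicOpen_le c).trans hle, hyc, ?_⟩
  have hsq : (ClSub.idealMod (I.comap f)).presheaf.map (homOfLE hle).op s = c • q := by
    refine H29Blow.idealSect_injective _ W ?_
    rw [H29Blow.idealSect_res, H29Blow.idealSect_smul, hq, hs, ← hzc]
    rfl
  have := H11Ample.isGen_basicOpen hqgen c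
  rw [← hsq, H10Coh.mres_mres] at this
  exact this

variable (k : Type u) [Field k] [X.Over (Spec (CommRingCat.of k))] [IsProper (X ↘ Spec (CommRingCat.of k))]
  {C : Scheme.{u}} [C.Over (Spec (CommRingCat.of k))] [IsProper (C ↘ Spec (CommRingCat.of k))] [IsIntegral C]
  (hC : topologicalKrullDim C = 1)
include hC

omit [X.Over (Spec (CommRingCat.of k))] [IsProper (X ↘ Spec (CommRingCat.of k))] in
theorem deg_pullback_ample_nonneg (h : C ⟶ X) {A : X.Modules} (hA : CohB1.IsAmple A) :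
    0 ≤ deg k ((Scheme.Modules.pullback h).obj A) := by
  obtain ⟨n, s, hs, -⟩ := hA.2.2 (h (genericPoint C))
  rw [H11Ample.genLocus_eq_gen] at hs
  have hB := H11Ample.isInvertible_tensorPow hA.1 (n + 1)
  have hhB := H11Ample.isInvertible_pullback h hB
  have hgen : genericPoint C ∈ H11Ample.gen _ (H11Ample.pullTop h (show Γ(CohB1.tensorPow A (n + 1), ⊤) from SecTwist.val s ⊤)) := by
    rw [H8Props.ProjOpenAmple.gen_pullTop h (fun y => H11Ample.exists_gen hB (h y))]
    exact hs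
  have h0 := deg_nonneg k hC hhB (ne_zero_of_mem_gen hhB hgen)
  obtain ⟨ψ⟩ := H11Ample.exists_iso_pullback_tensorPow h hA.1 (n + 1)
  have hP := H11Ample.isInvertible_tensorPow (H11Ample.isInvertible_pullback h hA.1) (n + 1)
  have h1 : deg k ((Scheme.Modules.pullback h).obj (CohB1.tensorPow A (n + 1))) =
      ((n + 1 : ℕ) : ℤ) * deg k ((Scheme.Modules.pullback h).obj A) := by
    rw [← deg_pow k hC (H11Ample.isInvertible_pullback h hA.1) (n + 1)]
    first
      | exact deg_congr k hC ψ hhB hP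
      | exact deg_congr k hC ψ.symm hhB hP
  rw [h1] at h0
  exact (mul_nonneg_iff_of_pos_left (by positivity)).1 h0

section

variable {Y : Scheme.{u}} (f : Y ⟶ X) (i : C ⟶ Y) (x : X) (hx : IsClosed ({x} : Set X))
  (hE : BlowUp.IsEffCartierIdeal ((W4c2seshadripos.pointIdeal x hx).comap f))

omit hC [X.Over (Spec (CommRingCat.of k))] [IsProper (X ↘ Spec (CommRingCat.of k))] in
include hE in
theorem isEffCartier_comap (hξ : f (i (genericPoint C)) ≠ x) :
    BlowUp.IsEffCartierIdeal ((W4c2seshadripos.pointIdeal x hx).comap (i ≫ f)) := by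
  intro z
  obtain ⟨V, hzV, a, -, hV⟩ := hE (i z)
  obtain ⟨W, hW, hzW, hle⟩ := exists_isAffineOpen_mem_and_subset (x := z) (U := i ⁻¹ᵁ V.1) hzV
  haveI : Nonempty W := ⟨⟨z, hzW⟩⟩
  have hid : ((W4c2seshadripos.pointIdeal x hx).comap (i ≫ f)).ideal ⟨W, hW⟩ =
      Ideal.span {(i.appLE V.1 W hle).hom a} := by
    rw [Scheme.IdealSheafData.comap_comp, H29Blow.ideal_comap _ i V ⟨W, hW⟩ hle, hV, Ideal.map_span,
      Set.image_singleton]
  refine ⟨⟨W, hW⟩, hzW, _, mem_nonZeroDivisors_of_ne_zero fun h0 => hξ ?_, hid⟩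
  rw [h0, Ideal.span_singleton_eq_bot.2 rfl] at hid
  have hξW : genericPoint C ∈ W := (genericPoint_specializes z).mem_open W.2 hzW
  have hsupp : genericPoint C ∈ ((W4c2seshadripos.pointIdeal x hx).comap (i ≫ f)).support := by
    refine (Scheme.IdealSheafData.mem_support_iff_of_mem (U := ⟨W, hW⟩) hξW).2 ?_
    rw [hid, Scheme.mem_zeroLocus_iff]
    intro b hb hb'
    have hb0 : b = 0 := by simpa using hb
    rw [hb0, Scheme.basicOpen_zero] at hb'
    exact hb'
  rw [Scheme.IdealSheafData.support_comap] at hsupp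
  exact (mem_support_pointIdeal x hx _).1 hsupp

omit [X.Over (Spec (CommRingCat.of k))] [IsProper (X ↘ Spec (CommRingCat.of k))] in
include hE in
theorem deg_exceptional_of_const (hξ : f (i (genericPoint C)) = x) :
    0 ≤ deg k ((Scheme.Modules.pullback i).obj
      (ClSub.idealMod ((W4c2seshadripos.pointIdeal x hx).comap f))) := by
  obtain ⟨U, hU, hxU, -⟩ := exists_isAffineOpen_mem_and_subset (x := x) (U := (⊤ : X.Opens)) trivial
  have hall : (⊤ : C.Opens) ≤ i ⁻¹ᵁ (f ⁻¹ᵁ U) := fun z _ => by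
    show f (i z) ∈ U
    have h1 : x ⤳ f (i z) := hξ ▸ ((genericPoint_specializes z).map i.continuous).map f.continuous
    have h2 : f (i z) ∈ ({x} : Set X) := h1.mem_closed hx rfl
    rw [Set.mem_singleton_iff.1 h2]
    exact hxU
  let N := ClSub.idealMod ((W4c2seshadripos.pointIdeal x hx).comap f)
  have hN : PicF.IsInvertible N := H29Blow.isInvertible_of_isEffCartierIdeal _ hE
  obtain ⟨s, V, hV, hyV, hs⟩ := exists_gen_sect f (W4c2seshadripos.pointIdeal x hx) hE ⟨U, hU⟩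
    (i (genericPoint C)) (by rw [hξ]; exact hxU)
  let P := (Scheme.Modules.pullback i).obj N
  let g : Γ(P, ⊤) := P.presheaf.map (homOfLE hall).op (OmegaSh.pullSect i N (f ⁻¹ᵁ U) s)
  refine deg_nonneg k hC (H11Ample.isInvertible_pullback i hN) (g := g)
    (ne_zero_of_mem_gen (H11Ample.isInvertible_pullback i hN) (t := genericPoint C) ?_)
  refine H11Ample.mem_gen_of_isGen (W := i ⁻¹ᵁ V) ?_ hyV
  have := IsGen.pullSect i hs
  rw [pullSect_res i N hV] at this
  rw [H10Coh.mres_mres]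
  exact this

end

/-- Separation of jets of `A^r ⊗ ω` at `x` bounds degrees on the blow-up at `x`. -/
theorem deg_ineq {Y : Scheme.{u}} (f : Y ⟶ X) (i : C ⟶ Y) (x : X) (hx : IsClosed ({x} : Set X))
    (hE : BlowUp.IsEffCartierIdeal ((W4c2seshadripos.pointIdeal x hx).comap f))
    {M : X.Modules} (hM : PicF.IsInvertible M) {s : ℕ} (hjets : W4c2seshadripos.SeparatesJets M x hx s)
    (hξ : f (i (genericPoint C)) ≠ x) (z₀ : C) (hz₀ : f (i z₀) = x) :
    0 ≤ deg k ((Scheme.Modules.pullback (i ≫ f)).obj M) +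
      s * deg k (ClSub.idealMod ((W4c2seshadripos.pointIdeal x hx).comap (i ≫ f))) := by
  haveI := H28Int.isNoetherian k (X := X)
  obtain ⟨E, e₀, hxE, he₀⟩ := H11Ample.exists_gen hM x
  obtain ⟨U, hU, hxU, hUE⟩ := exists_isAffineOpen_mem_and_subset (x := x) (U := E) hxE
  let e := M.presheaf.map (homOfLE hUE).op e₀
  have he : IsGen M e := he₀.res hUE
  haveI : IsNoetherianRing Γ(X, U) := IsLocallyNoetherian.component_noetherian ⟨U, hU⟩
  let η := f (i (genericPoint C))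
  have hsp : η ⤳ x := hz₀ ▸ ((genericPoint_specializes z₀).map i.continuous).map f.continuous
  have hηU : η ∈ U := hsp.mem_open U.2 hxU
  let p := hU.primeIdealOf ⟨x, hxU⟩
  let q := hU.primeIdealOf ⟨η, hηU⟩
  have hp : hU.fromSpec p = x := hU.fromSpec_primeIdealOf ⟨x, hxU⟩
  have hq : hU.fromSpec q = η := hU.fromSpec_primeIdealOf ⟨η, hηU⟩
  haveI : p.asIdeal.IsMaximal := by
    refine (PrimeSpectrum.isClosed_singleton_iff_isMaximal p).1 ?_
    have h := hx.preimage hU.fromSpec.continuous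
    have h' : hU.fromSpec ⁻¹' ({x} : Set X) = {p} := by
      ext z
      exact ⟨fun hz => hU.fromSpec.isOpenEmbedding.injective ((Set.mem_singleton_iff.1 hz).trans hp.symm),
        fun hz => by rw [Set.mem_singleton_iff.1 hz]; exact hp⟩
    exact h' ▸ h
  have hqp : q.asIdeal ≤ p.asIdeal := (PrimeSpectrum.le_iff_specializes q p).2
    (hU.fromSpec.isOpenEmbedding.isInducing.specializes_iff.1 (by rw [hp, hq]; exact hsp))
  have hne : q.asIdeal ≠ p.asIdeal := fun h => hξ (by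
    show η = x
    rw [← hp, ← hq, PrimeSpectrum.ext h])
  obtain ⟨b, hb, hbc⟩ := exists_pow_notMem p.asIdeal q.asIdeal hqp hne s
  obtain ⟨σ, c, hσ, hcb⟩ := exists_section_jet x hx hjets ⟨U, hU⟩ hxU he b
  have hmU : (W4c2seshadripos.pointIdeal x hx).ideal ⟨U, hU⟩ = p.asIdeal := pointIdeal_ideal x hx ⟨U, hU⟩ hxU
  rw [hmU] at hcb
  have hc : c ∈ p.asIdeal ^ s := by
    have h1 : c - b ∈ p.asIdeal ^ s := Ideal.pow_le_pow_right (Nat.le_succ s) hcb
    simpa using add_mem h1 hb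
  have hcq : c ∉ q.asIdeal := hbc c hcb
  have hηgen : η ∈ H11Ample.gen M σ := by
    refine (H11Ample.mem_gen_iff_mem_basicOpen he hσ hηU).2 ?_
    rw [← hq]
    show q ∈ hU.fromSpec ⁻¹ᵁ X.basicOpen c
    rw [hU.fromSpec_preimage_basicOpen]
    exact hcq
  let h := i ≫ f
  let P := (Scheme.Modules.pullback h).obj M
  have hP : PicF.IsInvertible P := H11Ample.isInvertible_pullback h hM
  let g : Γ(P, ⊤) := H11Ample.pullTop h σ
  have hg : g ≠ 0 := by
    refine ne_zero_of_mem_gen hP (t := genericPoint C) ?_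
    rw [H8Props.ProjOpenAmple.gen_pullTop h (fun y => H11Ample.exists_gen hM (h y))]
    exact hηgen
  refine deg_add_nonneg k hC (isEffCartier_comap f i x hx hE hξ) s hP g hg fun y => ?_
  by_cases hy : h y = x
  · obtain ⟨W, hW, hyW, hle⟩ := exists_isAffineOpen_mem_and_subset (x := y) (U := h ⁻¹ᵁ U)
      (by show h y ∈ U; rw [hy]; exact hxU)
    refine ⟨⟨W, hW⟩, P.presheaf.map (homOfLE hle).op (OmegaSh.pullSect h M U e), (h.appLE U W hle).hom c, hyW, ?_, ?_⟩
    · rw [H29Blow.ideal_comap _ h ⟨U, hU⟩ ⟨W, hW⟩ hle, hmU, ← Ideal.map_pow]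
      exact Ideal.mem_map_of_mem _ hc
    · show P.presheaf.map (homOfLE (le_top : W ≤ ⊤)).op g = _
      rw [← H10Coh.mres_mres P (le_top : h ⁻¹ᵁ U ≤ ⊤) hle g]
      rw [show P.presheaf.map (homOfLE (le_top : h ⁻¹ᵁ U ≤ ⊤)).op g =
        OmegaSh.pullSect h M U (M.presheaf.map (homOfLE (le_top : U ≤ ⊤)).op σ) from
          (pullSect_res h M (le_top : U ≤ ⊤) σ).symm, hσ, OmegaSh.pullSect_smul, Scheme.Modules.map_smul]
      rfl
  · obtain ⟨E', e', hyE', he'⟩ := H11Ample.exists_gen hP y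
    obtain ⟨W, hW, hyW, hle⟩ := exists_isAffineOpen_mem_and_subset (x := y)
      (U := E' ⊓ h ⁻¹ᵁ ⟨({x} : Set X)ᶜ, hx.isOpen_compl⟩) ⟨hyE', hy⟩
    obtain ⟨d, hd⟩ := H11Ample.exists_coeff (he'.res (fun z hz => (hle hz).1 : W ≤ E'))
      (P.presheaf.map (homOfLE (le_top : W ≤ ⊤)).op g)
    refine ⟨⟨W, hW⟩, _, d, hyW, ?_, hd⟩
    rw [ideal_eq_top _ ⟨W, hW⟩ fun z hz hs => by
      rw [Scheme.IdealSheafData.support_comap] at hs
      exact (hle hz).2 ((mem_support_pointIdeal x hx _).1 hs), Ideal.top_pow]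
    exact Submodule.mem_top

omit [X.Over (Spec (CommRingCat.of k))] [IsProper (X ↘ Spec (CommRingCat.of k))] in
/-- Curves missing the centre. -/
theorem deg_exceptional_of_disjoint {Y : Scheme.{u}} (f : Y ⟶ X) (i : C ⟶ Y) (x : X)
    (hx : IsClosed ({x} : Set X)) (hE : BlowUp.IsEffCartierIdeal ((W4c2seshadripos.pointIdeal x hx).comap f))
    (hdis : ∀ z, f (i z) ≠ x) :
    0 ≤ deg k (ClSub.idealMod ((W4c2seshadripos.pointIdeal x hx).comap (i ≫ f))) := by
  have hO : PicF.IsInvertible (Coh.structureModule C) := H11Ample.isInvertible_structureModule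
  have key := deg_add_nonneg k hC (isEffCartier_comap f i x hx hE (hdis _)) 1 hO
    (H11Ample.one (⊤ : C.Opens)) (fun h0 => one_ne_zero (α := Γ(C, ⊤)) h0) fun y => ?_
  · rw [deg_structure k hC] at key
    simpa using key
  obtain ⟨W, hW, hyW, hle⟩ := exists_isAffineOpen_mem_and_subset (x := y) (U := (⊤ : C.Opens)) trivial
  refine ⟨⟨W, hW⟩, H11Ample.one W, 1, hyW, ?_, ?_⟩
  · rw [ideal_eq_top _ ⟨W, hW⟩ fun z hz hs => by
      rw [Scheme.IdealSheafData.support_comap] at hs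
      exact hdis z ((mem_support_pointIdeal x hx _).1 hs), Ideal.top_pow]
    exact Submodule.mem_top
  · rw [one_smul]
    exact H11Ample.one_res _

/-- The Seshadri bound on one curve. -/
theorem seshadri_bound {Y : Scheme.{u}} (f : Y ⟶ X) (i : C ⟶ Y) (x : X) (hx : IsClosed ({x} : Set X))
    (hE : BlowUp.IsEffCartierIdeal ((W4c2seshadripos.pointIdeal x hx).comap f))
    {A ω : X.Modules} (hA : CohB1.IsAmple A) (hω : PicF.IsInvertible ω) (ε : ℝ) (hε : 0 < ε)
    (hjets : ∃ s₀ : ℕ, ∀ s : ℕ, s₀ ≤ s → ∀ r : ℕ, ((s : ℝ) + 2) < (r : ℝ) * ε →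
      W4c2seshadripos.SeparatesJets (CohB1.tensorMod (CohB1.tensorPow A r) ω) x hx s) :
    (0 : ℝ) ≤ (deg k ((Scheme.Modules.pullback i).obj ((Scheme.Modules.pullback f).obj A)) : ℝ) +
      ε * (deg k ((Scheme.Modules.pullback i).obj
        (ClSub.idealMod ((W4c2seshadripos.pointIdeal x hx).comap f))) : ℝ) := by
  let h := i ≫ f
  have hA' := H11Ample.isInvertible_pullback h hA.1
  rw [deg_congr k hC (show (Scheme.Modules.pullback i).obj ((Scheme.Modules.pullback f).obj A) ≅ (Scheme.Modules.pullback h).obj A from (Scheme.Modules.pullbackComp i f).app A) (H11Ample.isInvertible_pullback i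
    (H11Ample.isInvertible_pullback f hA.1)) hA']
  have ha := deg_pullback_ample_nonneg k hC h hA
  set a := deg k ((Scheme.Modules.pullback h).obj A)
  set d := deg k ((Scheme.Modules.pullback i).obj
    (ClSub.idealMod ((W4c2seshadripos.pointIdeal x hx).comap f))) with hd
  rcases le_or_gt 0 d with hd0 | hd0
  · have h1 : (0 : ℝ) ≤ (a : ℝ) := Int.cast_nonneg_iff.2 ha
    have h2 : (0 : ℝ) ≤ (d : ℝ) := Int.cast_nonneg_iff.2 hd0
    positivity
  have hξ : f (i (genericPoint C)) ≠ x := fun hξ =>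
    absurd (deg_exceptional_of_const k hC f i x hx hE hξ) (not_le.2 hd0)
  have hJ := isEffCartier_comap f i x hx hE hξ
  have hJ' : BlowUp.IsEffCartierIdeal (((W4c2seshadripos.pointIdeal x hx).comap f).comap i) := by
    rw [← Scheme.IdealSheafData.comap_comp]; exact hJ
  obtain ⟨ψ⟩ := H12Pic.CurveFam.nonempty_pullback_idealMod_comap i hE hJ'
  have hdJ : d = deg k (ClSub.idealMod ((W4c2seshadripos.pointIdeal x hx).comap (i ≫ f))) := by
    rw [hd, deg_congr k hC ψ (H11Ample.isInvertible_pullback i (H29Blow.isInvertible_of_isEffCartierIdeal _ hE))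
      (H29Blow.isInvertible_of_isEffCartierIdeal _ hJ'), Scheme.IdealSheafData.comap_comp]
  obtain ⟨z₀, hz₀⟩ : ∃ z₀, f (i z₀) = x := by
    by_contra hdis
    push Not at hdis
    exact absurd (deg_exceptional_of_disjoint k hC f i x hx hE hdis) (not_le.2 (hdJ ▸ hd0))
  obtain ⟨s₀, hs₀⟩ := hjets
  have hω' := H11Ample.isInvertible_pullback h hω
  set w := deg k ((Scheme.Modules.pullback h).obj ω)
  by_contra hneg
  push Not at hneg
  obtain ⟨r, hr⟩ := exists_nat_gt (max (((s₀ : ℝ) + 4) / ε) (((w : ℝ) - 4 * d) / (-((a : ℝ) + ε * d))))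
  have hr1 : (s₀ : ℝ) + 4 < r * ε := (div_lt_iff₀ hε).1 (lt_of_le_of_lt (le_max_left _ _) hr)
  have hr2 : (w : ℝ) - 4 * d < r * (-((a : ℝ) + ε * d)) :=
    (div_lt_iff₀ (by linarith)).1 (lt_of_le_of_lt (le_max_right _ _) hr)
  have hnn : (0 : ℝ) ≤ r * ε := by positivity
  have hN : s₀ + 4 ≤ ⌊(r : ℝ) * ε⌋₊ := Nat.le_floor (by push_cast; linarith)
  set s := ⌊(r : ℝ) * ε⌋₊ - 3 with hsdef
  have hsN : ((s : ℝ)) + 3 = (⌊(r : ℝ) * ε⌋₊ : ℝ) := by
    exact_mod_cast (show s + 3 = ⌊(r : ℝ) * ε⌋₊ by omega)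
  have h1 := Nat.floor_le hnn
  have h2 := Nat.lt_floor_add_one ((r : ℝ) * ε)
  have hM : PicF.IsInvertible (CohB1.tensorMod (CohB1.tensorPow A r) ω) :=
    H11Ample.isInvertible_tensor (H11Ample.isInvertible_tensorPow hA.1 r) hω
  have key := deg_ineq k hC f i x hx hE hM (hs₀ s (by omega) r (by linarith)) hξ z₀ hz₀
  obtain ⟨ψ₁⟩ := H11Ample.exists_iso_pullback_tensor h (H11Ample.isInvertible_tensorPow hA.1 r) hω
  obtain ⟨ψ₂⟩ := H11Ample.exists_iso_pullback_tensorPow h hA.1 r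
  have hPr := H11Ample.isInvertible_pullback h (H11Ample.isInvertible_tensorPow hA.1 r)
  have hdegM : deg k ((Scheme.Modules.pullback h).obj (CohB1.tensorMod (CohB1.tensorPow A r) ω)) = r * a + w := by
    rw [deg_congr k hC ψ₁ (H11Ample.isInvertible_pullback h hM) (H11Ample.isInvertible_tensor hPr hω'),
      deg_tensor k hC hPr hω', deg_congr k hC ψ₂ hPr (H11Ample.isInvertible_tensorPow hA' r),
      deg_pow k hC hA' r]
  rw [hdegM, ← hdJ] at key
  have key' : (0 : ℝ) ≤ (r : ℝ) * a + w + s * d := by exact_mod_cast key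
  have hdR : (d : ℝ) < 0 := by exact_mod_cast hd0
  nlinarith

end Groth.Agent.H17.Seshadri
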