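import Groth.Agent.H12Pic.SectionCurve
import Groth.Agent.H12Pic.CurveFam.ComapIdeal
import Groth.Agent.H25RankTwo
import Groth.Agent.H29Blow.IdealMod
import Groth.Agent.H11Ample.Restrict
import Groth.Agent.H11Ample.Pullback
import Groth.Prelude.Def_BlowUp2
import Groth.Prelude.Def_Pic13
import Mathlib

/-!
# Degrees and vanishing orders of sections on integral curves
-/

set_option autoImplicit false
set_option linter.style.haveILetI false
set_option linter.unusedSectionVars false

universe u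

open CategoryTheory CategoryTheory.Limits AlgebraicGeometry Opposite TopologicalSpace
open Groth.Agent.H11Tilde

noncomputable section

namespace Groth.Agent.H17.Seshadri

variable (k : Type u) [Field k] {C : Scheme.{u}} [C.Over (Spec (CommRingCat.of k))]
  [IsProper (C ↘ Spec (CommRingCat.of k))] [IsIntegral C]

/-- The degree. -/
abbrev deg (M : C.Modules) : ℤ := Pic13.curveDeg k (C ↘ Spec (CommRingCat.of k)) M

variable (hC : topologicalKrullDim C = 1)
include hC

theorem deg_congr {M N : C.Modules} (e : M ≅ N) (hM : PicF.IsInvertible M) (hN : PicF.IsInvertible N) :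
    deg k M = deg k N := by
  rw [deg, deg, H28Int.Curves.curveDeg_eq k hC hM, H28Int.Curves.curveDeg_eq k hC hN]
  show -(Curv2.euler k C _ - Curv2.euler k C _) = -(Curv2.euler k C _ - Curv2.euler k C _)
  rw [H25Euler.euler_congr (PicGrp.tensorModIso e (Iso.refl (Coh.structureModule C)))]

theorem deg_structure : deg k (Coh.structureModule C) = 0 := by
  rw [deg, H28Int.Curves.curveDeg_eq k hC H11Ample.isInvertible_structureModule,
    H28Int.D_cons_structure k (l := []) (by simp)]
  simp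

theorem dimSupp : topologicalKrullDim (CohB1.support (Coh.structureModule C)) ≤
    ((([] : List C.Modules).length + 1 : ℕ) : WithBot ℕ∞) :=
  (Topology.IsInducing.subtypeVal.topologicalKrullDim_le).trans (by simpa using hC.le)

theorem deg_tensor {M N : C.Modules} (hM : PicF.IsInvertible M) (hN : PicF.IsInvertible N) :
    deg k (CohB1.tensorMod M N) = deg k M + deg k N := by
  rw [deg, deg, deg, H28Int.Curves.curveDeg_eq k hC (H11Ample.isInvertible_tensor hM hN),
    H28Int.Curves.curveDeg_eq k hC hM, H28Int.Curves.curveDeg_eq k hC hN,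
    H28Int.D_cons_tensor k (l := []) (by simp) hM hN (H28Int.Surface.isCoh_structure k) (dimSupp hC)]
  ring

theorem deg_pow {M : C.Modules} (hM : PicF.IsInvertible M) (n : ℕ) :
    deg k (CohB1.tensorPow M n) = n * deg k M := by
  induction n with
  | zero => show deg k (Coh.structureModule C) = _; rw [deg_structure k hC]; simp
  | succ n ih =>
    show deg k (CohB1.tensorMod (CohB1.tensorPow M n) M) = _
    rw [deg_tensor k hC (H11Ample.isInvertible_tensorPow hM n) hM, ih]
    push_cast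
    ring

theorem deg_nonneg {M : C.Modules} (hM : PicF.IsInvertible M) {g : Γ(M, ⊤)} (hg : g ≠ 0) :
    0 ≤ deg k M := by
  by_cases htop : H11Ample.gen M g = ⊤
  · haveI : IsIso (H11Tilde.homOfGlobal M g) := H11Tilde.isIso_homOfGlobal M g fun V => by
      have h := (H11Ample.isGen_gen g).bijective ((le_top : V ≤ ⊤).trans htop.ge)
      simp only [H10Coh.mres_mres] at h
      exact h
    rw [deg_congr k hC (asIso (H11Tilde.homOfGlobal M g)).symm hM H11Ample.isInvertible_structureModule,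
      deg_structure k hC]
  · obtain ⟨w, hw⟩ : ∃ w, w ∉ H11Ample.gen M g := by
      by_contra h
      push Not at h
      exact htop (eq_top_iff.2 fun w _ => h w)
    exact (H12Pic.SectionCurve.curveDeg_pos k hC hM hg hw).le

omit hC in
theorem ne_zero_of_mem_gen {M : C.Modules} (hM : PicF.IsInvertible M) {g : Γ(M, ⊤)} {t : C}
    (ht : t ∈ H11Ample.gen M g) : g ≠ 0 := fun h0 => by
  have hb := (H11Ample.mem_gen_iff hM g t).1 ht
  rw [h0, map_zero] at hb
  exact zero_ne_one (hb.1 (a₁ := (0 : C.presheaf.stalk t)) (a₂ := 1) (by simp))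

/-- Multiplication of a module by an ideal. -/
def mulPairing (J : C.IdealSheafData) (M : C.Modules) : Pairing M (ClSub.idealMod J) M where
  toFun U m q := OmegaSh.idealSect J U q • m
  add_left U m m' q := smul_add _ _ _
  smul_left U r m q := smul_comm _ _ _
  add_right U m q q' := by rw [map_add, add_smul]
  smul_right U r m q := by rw [H29Blow.idealSect_smul, mul_smul]
  res U V h m q := by
    rw [H29Blow.idealSect_res, Scheme.Modules.map_smul]

/-- `M ⊗ J ⟶ M`. -/
abbrev mulHom (J : C.IdealSheafData) (M : C.Modules) : CohB1.tensorMod M (ClSub.idealMod J) ⟶ M :=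
  tensorDesc (mulPairing J M)

omit hC in
include k in
theorem exists_step {J : C.IdealSheafData} (hJ : BlowUp.IsEffCartierIdeal J) {M : C.Modules}
    (hM : PicF.IsInvertible M) (g : Γ(M, ⊤)) (hg : g ≠ 0) (s : ℕ)
    (h : ∀ y : C, ∃ (W : C.affineOpens) (p : Γ(M, W.1)) (d : Γ(C, W.1)), y ∈ W.1 ∧
      d ∈ (J.ideal W) ^ (s + 1) ∧ M.presheaf.map (homOfLE (le_top : W.1 ≤ ⊤)).op g = d • p) :
    ∃ g' : Γ(CohB1.tensorMod M (ClSub.idealMod J), ⊤), g' ≠ 0 ∧
      ∀ y : C, ∃ (W : C.affineOpens) (p : Γ(CohB1.tensorMod M (ClSub.idealMod J), W.1)) (d : Γ(C, W.1)),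
        y ∈ W.1 ∧ d ∈ (J.ideal W) ^ s ∧
        (CohB1.tensorMod M (ClSub.idealMod J)).presheaf.map (homOfLE (le_top : W.1 ≤ ⊤)).op g' = d • p := by
  haveI := H28Int.isNoetherian k (X := C)
  let N := CohB1.tensorMod M (ClSub.idealMod J)
  have hQ := H29Blow.isInvertible_of_isEffCartierIdeal J hJ
  have hN : PicF.IsInvertible N := H11Ample.isInvertible_tensor hM hQ
  let φ := mulHom J M
  -- local preimages
  have loc : ∀ y : C, ∃ (W : C.affineOpens) (p : Γ(N, W.1)) (d : Γ(C, W.1)), y ∈ W.1 ∧ d ∈ (J.ideal W) ^ s ∧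
      M.presheaf.map (homOfLE (le_top : W.1 ≤ ⊤)).op g = φ.app W.1 (d • p) := by
    intro y
    obtain ⟨W, p, d, hyW, hd, hgW⟩ := h y
    obtain ⟨V, hyV, a, ha, hV⟩ := hJ y
    obtain ⟨E, e, hyE, he⟩ := H11Ample.exists_gen hM y
    obtain ⟨W', hW', hyW', hle⟩ := exists_isAffineOpen_mem_and_subset (x := y) (U := W.1 ⊓ (V.1 ⊓ E))
      ⟨hyW, hyV, hyE⟩
    have h1 : W' ≤ W.1 := fun z hz => (hle hz).1
    have h2 : W' ≤ V.1 := fun z hz => (hle hz).2.1
    have h3 : W' ≤ E := fun z hz => (hle hz).2.2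
    let a' : Γ(C, W') := C.presheaf.map (homOfLE h2).op a
    have hideal : J.ideal ⟨W', hW'⟩ = Ideal.span {a'} := by
      rw [← J.map_ideal (U := ⟨W', hW'⟩) (V := V) h2, hV, Ideal.map_span, Set.image_singleton]
      rfl
    obtain ⟨q, hq⟩ := (H29Blow.mem_ideal_iff_exists_idealSect J hW' a').1
      (hideal ▸ Ideal.mem_span_singleton_self a')
    obtain ⟨c, hc⟩ := H11Ample.exists_coeff (he.res h3) (M.presheaf.map (homOfLE h1).op p)
    have hd' : C.presheaf.map (homOfLE h1).op d ∈ (Ideal.span {a'}) ^ (s + 1) := by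
      rw [← hideal, ← J.map_ideal (U := ⟨W', hW'⟩) (V := W) h1, ← Ideal.map_pow]
      exact Ideal.mem_map_of_mem _ hd
    rw [Ideal.span_singleton_pow, Ideal.mem_span_singleton'] at hd'
    obtain ⟨r, hr⟩ := hd'
    refine ⟨⟨W', hW'⟩, H11Ample.tm (M.presheaf.map (homOfLE h3).op e) q, c * r * a' ^ s, hyW', ?_, ?_⟩
    · rw [hideal, Ideal.span_singleton_pow]
      exact Ideal.mul_mem_left _ _ (Ideal.mem_span_singleton_self _)
    · rw [Scheme.Modules.Hom.app_smul]
      show _ = (c * r * a' ^ s) • φ.app W' (H11Ample.tm _ q)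
      rw [show φ.app W' (H11Ample.tm (M.presheaf.map (homOfLE h3).op e) q) =
        OmegaSh.idealSect J W' q • M.presheaf.map (homOfLE h3).op e from H11Ample.tensorDesc_tm _ _ _, hq,
        smul_smul, ← H10Coh.mres_mres M (le_top : W.1 ≤ ⊤) h1 g, hgW, Scheme.Modules.map_smul, ← hr, hc, smul_smul]
      congr 1
      ring
  haveI : Mono φ := (H25RankTwo.eq_zero_or_mono hN hM φ).resolve_left fun h0 => hg <|
    TopCat.Presheaf.section_ext (⟨_, M.isSheaf⟩ : TopCat.Sheaf Ab C) ⊤ _ _ fun y hy => by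
      obtain ⟨W, p, d, hyW, -, hgW⟩ := loc y
      show M.presheaf.germ ⊤ y hy g = M.presheaf.germ ⊤ y hy 0
      rw [← TopCat.Presheaf.germ_res_apply M.presheaf (homOfLE (le_top : W.1 ≤ ⊤)) y hyW g, hgW, h0, map_zero]
      exact map_zero _
  let π := cokernel.π φ
  have hπ : π.app ⊤ g = 0 := by
    refine TopCat.Presheaf.section_ext (⟨_, (cokernel φ).isSheaf⟩ : TopCat.Sheaf Ab C) ⊤ _ _ fun y hy => ?_
    obtain ⟨W, p, d, hyW, -, hgW⟩ := loc y
    show (cokernel φ).presheaf.germ ⊤ y hy (π.app ⊤ g) = (cokernel φ).presheaf.germ ⊤ y hy 0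
    rw [← TopCat.Presheaf.germ_res_apply (cokernel φ).presheaf (homOfLE (le_top : W.1 ≤ ⊤)) y hyW (π.app ⊤ g),
      ← H11Tilde.app_map_apply, hgW,
      show π.app W.1 (φ.app W.1 (d • p)) = 0 from congr($(congr(Scheme.Modules.Hom.app $(cokernel.condition φ) W.1)) (d • p)),
      map_zero]
    exact (map_zero _).symm
  obtain ⟨g', hg'⟩ : ∃ g', φ.app ⊤ g' = g := by
    have hS : (ShortComplex.mk φ π (cokernel.condition _)).ShortExact :=
      { exact := ShortComplex.exact_cokernel _ }
    exact H10Coh.exists_app_eq_of_exact hS ⊤ g hπ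
  refine ⟨g', fun h0 => hg (by rw [← hg', h0, map_zero]), fun y => ?_⟩
  obtain ⟨W, p, d, hyW, hd, hgW⟩ := loc y
  refine ⟨W, p, d, hyW, hd, H10Coh.injective_app_of_mono' φ W.1 ?_⟩
  rw [H11Tilde.app_map_apply, hg', hgW]

/-- A section vanishing to order `s` along an effective Cartier divisor. -/
theorem deg_add_nonneg {J : C.IdealSheafData} (hJ : BlowUp.IsEffCartierIdeal J) :
    ∀ (s : ℕ) {M : C.Modules} (_ : PicF.IsInvertible M) (g : Γ(M, ⊤)) (_ : g ≠ 0)
    (_ : ∀ y : C, ∃ (W : C.affineOpens) (p : Γ(M, W.1)) (d : Γ(C, W.1)), y ∈ W.1 ∧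
      d ∈ (J.ideal W) ^ s ∧ M.presheaf.map (homOfLE (le_top : W.1 ≤ ⊤)).op g = d • p),
    0 ≤ deg k M + s * deg k (ClSub.idealMod J)
  | 0, M, hM, g, hg, _ => by simpa using deg_nonneg k hC hM hg
  | s + 1, M, hM, g, hg, h => by
    obtain ⟨g', hg', h'⟩ := exists_step k hJ hM g hg s h
    have hQ := H29Blow.isInvertible_of_isEffCartierIdeal J hJ
    have := deg_add_nonneg hJ s (H11Ample.isInvertible_tensor hM hQ) g' hg' h'
    rw [deg_tensor k hC hM hQ] at this
    push_cast
    linarith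

end Groth.Agent.H17.Seshadri
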